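import Cfsg.Agent.H7.Fi23E9.T

set_option autoImplicit false
set_option linter.unusedVariables false
set_option maxRecDepth 100000
set_option Elab.async false

namespace CfsgH7.Fi23.E9

theorem c0 : TC.rowsOk T 656 9 RT 50 58 33935 9 0 70 = true := by decide +kernel
theorem c70 : TC.rowsOk T 656 9 RT 50 58 33935 9 70 76 = true := by decide +kernel
theorem c146 : TC.rowsOk T 656 9 RT 50 58 33935 9 146 79 = true := by decide +kernel
theorem c225 : TC.rowsOk T 656 9 RT 50 58 33935 9 225 68 = true := by decide +kernel

end CfsgH7.Fi23.E9
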