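import Cfsg.Agent.H7.Fi23E9.T

set_option autoImplicit false
set_option linter.unusedVariables false
set_option maxRecDepth 100000
set_option Elab.async false

namespace CfsgH7.Fi23.E9

theorem c293 : TC.rowsOk T 656 9 RT 50 58 33935 9 293 64 = true := by decide +kernel
theorem c357 : TC.rowsOk T 656 9 RT 50 58 33935 9 357 65 = true := by decide +kernel
theorem c422 : TC.rowsOk T 656 9 RT 50 58 33935 9 422 67 = true := by decide +kernel
theorem c489 : TC.rowsOk T 656 9 RT 50 58 33935 9 489 42 = true := by decide +kernel
theorem n0 : TC.cntLive T 656 9 33935 0 531 = 28160 := by decide +kernel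

end CfsgH7.Fi23.E9
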