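import Cfsg.Agent.H7.Fi23.A
import Cfsg.Agent.H7.Fi23E9.C0
import Cfsg.Agent.H7.Fi23E9.C1

set_option autoImplicit false
set_option linter.unusedVariables false
set_option maxRecDepth 100000
set_option Elab.async false

namespace CfsgH7.Fi23.E9

theorem a70 : ∀ c < 33935, c < 64 * 70 → TC.rowOk T 656 9 RT 50 58 33935 9 c = true :=
  TC.rows_step TC.rows_zero c0 rfl
theorem a146 : ∀ c < 33935, c < 64 * 146 → TC.rowOk T 656 9 RT 50 58 33935 9 c = true :=
  TC.rows_step a70 c70 rfl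
theorem a225 : ∀ c < 33935, c < 64 * 225 → TC.rowOk T 656 9 RT 50 58 33935 9 c = true :=
  TC.rows_step a146 c146 rfl
theorem a293 : ∀ c < 33935, c < 64 * 293 → TC.rowOk T 656 9 RT 50 58 33935 9 c = true :=
  TC.rows_step a225 c225 rfl
theorem a357 : ∀ c < 33935, c < 64 * 357 → TC.rowOk T 656 9 RT 50 58 33935 9 c = true :=
  TC.rows_step a293 c293 rfl
theorem a422 : ∀ c < 33935, c < 64 * 422 → TC.rowOk T 656 9 RT 50 58 33935 9 c = true :=
  TC.rows_step a357 c357 rfl
theorem a489 : ∀ c < 33935, c < 64 * 489 → TC.rowOk T 656 9 RT 50 58 33935 9 c = true :=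
  TC.rows_step a422 c422 rfl
theorem a531 : ∀ c < 33935, c < 64 * 531 → TC.rowOk T 656 9 RT 50 58 33935 9 c = true :=
  TC.rows_step a489 c489 rfl
theorem b531 : (TC.liveSet T 656 9 33935 531).card = 28160 :=
  TC.live_step TC.live_zero n0 rfl rfl
theorem enum : Enum Fi23.R9 S 9 28160 T 656 9 :=
  TC.enum (RT := RT) (nR := 50) (nS := 58) (by norm_num) (by norm_num) (by norm_num)
    (by decide +kernel) a531 b531

end CfsgH7.Fi23.E9
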